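import Cfsg.Agent.Chev.D4Invol.Coords
import Cfsg.Agent.Chev.Twist.D4Main
import Cfsg.Agent.Chev.Twist.D4Stmts
import Mathlib.FieldTheory.Perfect

/-!
The two classes of involutions of `³D₄` in characteristic two.
-/

set_option autoImplicit false
set_option maxRecDepth 100000
set_option maxHeartbeats 1000000

namespace Cfsg.Agent.Chev

open Cfsg.Lie

universe u

namespace D4Invol

local notation "hD" => facts_chevD4

variable {K : Type u} [Field K]

theorem two_eq [CharP K 2] : (2 : K) = 0 := by exact_mod_cast CharP.cast_eq_zero K 2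

theorem neg_eq [CharP K 2] (a : K) : -a = a := by linear_combination (-a) * two_eq (K := K)

theorem one_eq_P : (1 : GL chevD4.Idx K) = P 0 0 0 0 0 0 0 0 0 0 0 0 := by simp [P, xG_zero]

theorem etaN_one [CharP K 2] (i : Fin chevD4.rank) (r : Fin chevD4.nroots) (t : K) :
    nS hD (i : ℕ) * xG hD r t =
      xG hD (wPerm facts_chevD4.{u} i r : ℕ) t * nS hD (i : ℕ) := by
  have h := nS_conj_x hD i.2 r.2 t (F := K)
  have h1 : (etaN facts_chevD4.{u} i r : K) = 1 := by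
    have h2 := etaN_cast_sq hD i.2 r.2 (F := K)
    have h3 : ((etaN facts_chevD4.{u} i r : K) + 1) ^ 2 = 0 := by
      rw [CharTwo.add_sq, pow_two, h2, one_pow, CharTwo.add_self_eq_zero]
    have := eq_neg_of_add_eq_zero_left (pow_eq_zero_iff two_ne_zero |>.1 h3)
    rwa [neg_eq] at this
  rw [h1, one_mul] at h
  exact h

/-- The image of a root under a word of reflections. -/
def wImg (w : List (Fin chevD4.rank)) (r : ℕ) : ℕ :=
  w.foldr (fun i s => chevD4.reflectRoot i s) r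

theorem nWord_root [CharP K 2] : ∀ (w : List (Fin chevD4.rank)) (r : Fin chevD4.nroots) (t : K),
    wImg w r < chevD4.nroots ∧
      nWord hD w * xG hD r t = xG hD (wImg w r) t * nWord hD w
  | [], r, t => by simp [wImg, nWord]
  | i :: w, r, t => by
    obtain ⟨h1, h2⟩ := nWord_root w r t
    have e : (wPerm facts_chevD4.{u} i ⟨_, h1⟩ : ℕ) = wImg (i :: w) r := by
      rw [wPerm_val]; rfl
    refine ⟨e ▸ (wPerm facts_chevD4.{u} i ⟨_, h1⟩).2, ?_⟩
    have e2 : nWord hD (i :: w) = (nS hD (i : ℕ) : GL chevD4.Idx K) * nWord hD w := by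
      simp [nWord]
    rw [e2, mul_assoc, h2, ← mul_assoc, etaN_one i ⟨_, h1⟩ t, e, mul_assoc]

theorem nWord_word [CharP K 2] (w : List (Fin chevD4.rank)) :
    ∀ (l : List (ℕ × K)), (∀ p ∈ l, p.1 < chevD4.nroots) →
      nWord hD w * wordG hD l = wordG hD (l.map fun p => (wImg w p.1, p.2)) * nWord hD w
  | [], _ => by simp [wordG]
  | p :: l, h => by
    have e1 : ∀ (q : ℕ × K) (m : List (ℕ × K)),
        wordG hD (q :: m) = xG hD q.1 q.2 * wordG hD m := fun q m => by simp [wordG]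
    rw [List.map_cons, e1, e1, ← mul_assoc,
      (nWord_root w ⟨p.1, h p (List.mem_cons_self ..)⟩ p.2).2, mul_assoc,
      nWord_word w l fun q hq => h q (List.mem_cons_of_mem _ hq), mul_assoc]

/-- The variables in the order in which the twist returns them. -/
def sigW : List (ℕ × CE) :=
  ([14, 18, 13, 12, 19, 16, 15, 20, 21, 17, 22, 23] : List ℕ).zipIdx.map fun p => (p.1, CE.var p.2)

theorem sigW_eq : collPoly chevD4 key 40 sigW = [(14, [[0]]), (12, [[3]]), (18, [[1]]), (13, [[2]]),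
    (15, [[6]]), (19, [[4]]), (16, [[5]]), (17, [[9]]), (20, [[7]]), (21, [[8]]), (22, [[10]]),
    (23, [[11]])] := by
  decide +kernel

/-- The word produced by the first reflection. -/
def n1W : List (ℕ × CE) :=
  ([12, 18, 13, 17, 20, 21, 23, 22] : List ℕ).zipIdx.map fun p => (p.1, CE.var p.2)

theorem n1W_eq : collPoly chevD4 key 40 n1W = [(12, [[0]]), (18, [[1]]), (13, [[2]]), (17, [[3]]),
    (20, [[4]]), (21, [[5]]), (22, [[7]]), (23, [[6]])] := by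
  decide +kernel

/-- The word produced by the second reflection. -/
def n0W : List (ℕ × CE) :=
  ([22, 21, 17, 20, 23] : List ℕ).zipIdx.map fun p => (p.1, CE.var p.2)

theorem n0W_eq : collPoly chevD4 key 40 n0W = [(17, [[2]]), (20, [[3]]), (21, [[1]]), (22, [[0]]),
    (23, [[4]])] := by
  decide +kernel

theorem roots_lt : ∀ r ∈ ([12, 13, 14, 15, 16, 17, 18, 19, 20, 21, 22, 23] : List ℕ),
    r < chevD4.nroots := by
  decide +kernel

theorem rho_table : ∀ r : Fin chevD4.nroots, ((d4_031_ρ r : Fin chevD4.nroots) : ℕ) =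
    [0, 1, 6, 2, 7, 10, 3, 8, 4, 9, 11, 5, 18, 12, 14, 19, 15, 20, 13, 16, 21, 17, 22, 23].getD r 0 := by
  decide +kernel

variable {φ : K →+* K} {hφ : ∀ t, (φ ^ 3) t = t}

local notation "TT" => twistD4 K φ hφ

theorem phi3 (hφ : ∀ t, (φ ^ 3) t = t) (t : K) : φ (φ (φ t)) = t := by
  have := hφ t
  simpa [pow_succ, RingHom.mul_def] using this

section Char

variable [CharP K 2]

theorem σ_root {r s : ℕ} (hr : r < chevD4.nroots)
    (h : [0, 1, 6, 2, 7, 10, 3, 8, 4, 9, 11, 5, 18, 12, 14, 19, 15, 20, 13, 16, 21, 17, 22, 23].getD r 0 = s)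
    (t : K) : (TT).σ (xG hD r t) = xG hD s (φ t) := by
  obtain ⟨e, he, h1⟩ := (TT).σ_x (⟨r, hr⟩ : Fin chevD4.nroots)
  have he1 : e = 1 := he.elim id fun h => h.trans (neg_eq 1)
  have hs : (((TT).ρ ⟨r, hr⟩ : Fin chevD4.nroots) : ℕ) = s := (rho_table ⟨r, hr⟩).trans h
  rw [← hs]
  have := h1 t
  rwa [he1, one_mul] at this

theorem σ_P (b a₀ a₁ a₂ c₀ c₁ c₂ d₀ d₁ d₂ e f : K) :
    (TT).σ (P b a₀ a₁ a₂ c₀ c₁ c₂ d₀ d₁ d₂ e f) =
      P (φ b) (φ a₂) (φ a₀) (φ a₁) (φ c₂) (φ c₀) (φ c₁) (φ d₂) (φ d₀) (φ d₁) (φ e) (φ f) := by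
  have key : wordC hD (env [φ b, φ a₀, φ a₁, φ a₂, φ c₀, φ c₁, φ c₂, φ d₀, φ d₁, φ d₂, φ e, φ f])
      sigW = P (φ b) (φ a₂) (φ a₀) (φ a₁) (φ c₂) (φ c₀) (φ c₁) (φ d₂) (φ d₀) (φ d₁) (φ e) (φ f) := by
    rw [wordC_collPoly hD _ key 40, sigW_eq]
    simp [wordG, env, CE.pval, P, mul_assoc]
  rw [← key]
  have hl : ∀ r ∈ ([12, 13, 14, 15, 16, 17, 18, 19, 20, 21, 22, 23] : List ℕ), r < chevD4.nroots :=
    roots_lt
  simp only [P, map_mul]
  rw [σ_root (hl 14 (by simp)) rfl, σ_root (hl 12 (by simp)) rfl, σ_root (hl 18 (by simp)) rfl,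
    σ_root (hl 13 (by simp)) rfl, σ_root (hl 15 (by simp)) rfl, σ_root (hl 19 (by simp)) rfl,
    σ_root (hl 16 (by simp)) rfl, σ_root (hl 17 (by simp)) rfl, σ_root (hl 20 (by simp)) rfl,
    σ_root (hl 21 (by simp)) rfl, σ_root (hl 22 (by simp)) rfl, σ_root (hl 23 (by simp)) rfl]
  simp [wordC, wordG, sigW, env, CE.val, mul_assoc]

end Char

variable (φ) in
/-- The twisted element with the given coordinates. -/
def Q (b a c d e f : K) : GL chevD4.Idx K :=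
  P b a (φ a) (φ (φ a)) c (φ c) (φ (φ c)) d (φ d) (φ (φ d)) e f

section Char

variable [CharP K 2]

theorem Q_mem {b e f : K} (hb : φ b = b) (he : φ e = e) (hf : φ f = f) (a c d : K) :
    Q φ b a c d e f ∈ (TT).U1 := by
  refine ⟨P_mem _ _ _ _ _ _ _ _ _ _ _ _, ?_⟩
  show (TT).σ (Q φ b a c d e f) = Q φ b a c d e f
  simp only [Q, σ_P, phi3 hφ, hb, he, hf]

theorem exists_Q {g : GL chevD4.Idx K} (hg : g ∈ (TT).U1) :
    ∃ b a c d e f, φ b = b ∧ φ e = e ∧ φ f = f ∧ g = Q φ b a c d e f := by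
  obtain ⟨b, a₀, a₁, a₂, c₀, c₁, c₂, d₀, d₁, d₂, e, f, rfl⟩ := exists_P hg.1
  have h : (TT).σ (P b a₀ a₁ a₂ c₀ c₁ c₂ d₀ d₁ d₂ e f) = P b a₀ a₁ a₂ c₀ c₁ c₂ d₀ d₁ d₂ e f :=
    hg.2
  rw [σ_P] at h
  obtain ⟨h1, -, h3, h4, -, h6, h7, -, h9, h10, h11, h12⟩ := P_injective h
  exact ⟨b, a₀, c₀, d₀, e, f, h1, h11, h12, by rw [Q, h3, h4, h6, h7, h9, h10]⟩

variable (φ hφ) in
/-- Conjugacy in the twisted group. -/
def Cj (g h : GL chevD4.Idx K) : Prop := ∃ x ∈ (TT).G1, x * g * x⁻¹ = h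

theorem Cj.trans {g h k : GL chevD4.Idx K} (h1 : Cj φ hφ g h) (h2 : Cj φ hφ h k) : Cj φ hφ g k := by
  obtain ⟨e, he, rfl⟩ := h1
  obtain ⟨e', he', rfl⟩ := h2
  exact ⟨e' * e, Subgroup.mul_mem _ he' he, by group⟩

theorem Cj.symm {g h : GL chevD4.Idx K} (h1 : Cj φ hφ g h) : Cj φ hφ h g := by
  obtain ⟨e, he, rfl⟩ := h1
  exact ⟨e⁻¹, Subgroup.inv_mem _ he, by group⟩

theorem cj_of_eq {e g h : GL chevD4.Idx K} (he : e ∈ (TT).G1) (h' : e * g = h * e) :
    Cj φ hφ g h := ⟨e, he, by rw [h', mul_inv_cancel_right]⟩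

theorem Cj.sq {g h : GL chevD4.Idx K} (h1 : Cj φ hφ g h) (hg : g * g = 1) : h * h = 1 := by
  obtain ⟨e, -, rfl⟩ := h1
  rw [show e * g * e⁻¹ * (e * g * e⁻¹) = e * (g * g) * e⁻¹ by group, hg, mul_one, mul_inv_cancel]

theorem move {x y : GL chevD4.Idx K} (hx : x ∈ (TT).U1) (hy : y ∈ (TT).U1) :
    ∃ b a c d e f, φ b = b ∧ φ e = e ∧ φ f = f ∧ Cj φ hφ y (Q φ b a c d e f) ∧
      x * y = Q φ b a c d e f * x := by
  obtain ⟨b, a, c, d, e, f, hb, he, hf, h⟩ := exists_Q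
    ((TT).U1.mul_mem ((TT).U1.mul_mem hx hy) ((TT).U1.inv_mem hx))
  refine ⟨b, a, c, d, e, f, hb, he, hf, ⟨x, (TT).U1_le_G1 hx, h⟩, ?_⟩
  rw [← h, inv_mul_cancel_right]

theorem orb_eq : (TT).orb (0 : Fin 2) =
      [⟨0, by decide⟩, ⟨2, by decide⟩, ⟨3, by decide⟩] ∧
    (TT).orb (1 : Fin 2) = [⟨1, by decide⟩] :=
  (by decide +kernel :
    (List.range (d4Len 0)).map (orbNode d4_031_π d4Base (0 : Fin 2)) =
        [⟨0, by decide⟩, ⟨2, by decide⟩, ⟨3, by decide⟩] ∧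
      (List.range (d4Len 1)).map (orbNode d4_031_π d4Base (1 : Fin 2)) = [⟨1, by decide⟩])

theorem nA1_Q (c d e f : K) :
    Cj φ hφ (Q φ 0 0 c d e f) (Q φ 0 c 0 d f e) := by
  refine cj_of_eq ((TT).nA_mem_G1 (1 : Fin 2)) ?_
  show nWord hD ((TT).orb (1 : Fin 2)) * _ = _ * nWord hD ((TT).orb (1 : Fin 2))
  rw [orb_eq.2]
  have e1 : Q φ 0 0 c d e f = wordG hD [(15, c), (19, φ c), (16, φ (φ c)), (17, d), (20, φ d),
      (21, φ (φ d)), (22, e), (23, f)] := by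
    simp [Q, P, wordG, xG_zero, mul_assoc]
  have key : wordC hD (env [c, φ c, φ (φ c), d, φ d, φ (φ d), e, f]) n1W = Q φ 0 c 0 d f e := by
    rw [wordC_collPoly hD _ key 40, n1W_eq]
    simp [wordG, env, CE.pval, Q, P, xG_zero, mul_assoc]
  have hl : ∀ r ∈ ([12, 13, 14, 15, 16, 17, 18, 19, 20, 21, 22, 23] : List ℕ), r < chevD4.nroots :=
    roots_lt
  rw [e1, nWord_word _ _ ?_, ← key]
  rotate_left
  · intro p hp
    simp at hp
    rcases hp with rfl | rfl | rfl | rfl | rfl | rfl | rfl | rfl <;> exact hl _ (by simp)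
  congr 1

theorem nA0_Q (b c f : K) :
    Cj φ hφ (Q φ b 0 c 0 0 f) (Q φ 0 0 0 (φ c) b f) := by
  refine cj_of_eq ((TT).nA_mem_G1 (0 : Fin 2)) ?_
  show nWord hD ((TT).orb (0 : Fin 2)) * _ = _ * nWord hD ((TT).orb (0 : Fin 2))
  rw [orb_eq.1]
  have e1 : Q φ b 0 c 0 0 f = wordG hD [(14, b), (15, c), (19, φ c), (16, φ (φ c)), (23, f)] := by
    simp [Q, P, wordG, xG_zero, mul_assoc]
  have key : wordC hD (env [b, c, φ c, φ (φ c), f]) n0W = Q φ 0 0 0 (φ c) b f := by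
    rw [wordC_collPoly hD _ key 40, n0W_eq]
    simp [wordG, env, CE.pval, Q, P, xG_zero, mul_assoc, phi3 hφ]
  have hl : ∀ r ∈ ([12, 13, 14, 15, 16, 17, 18, 19, 20, 21, 22, 23] : List ℕ), r < chevD4.nroots :=
    roots_lt
  rw [e1, nWord_word _ _ ?_, ← key]
  rotate_left
  · intro p hp
    simp at hp
    rcases hp with rfl | rfl | rfl | rfl | rfl <;> exact hl _ (by simp)
  congr 1

theorem sq_eqs {b a c d e f : K} (hsq : Q φ b a c d e f * Q φ b a c d e f = 1) :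
    a * b = 0 ∧ (b = 0 → φ (φ c) * a + c * φ (φ a) = 0) ∧
      (b = 0 → c = 0 → d * φ a + φ (φ d) * a + φ d * φ (φ a) = 0) ∧
      (a = 0 → c = 0 → e * b = 0) := by
  rw [Q, P_mul, one_eq_P] at hsq
  obtain ⟨-, -, -, -, h5, -, -, h8, -, -, h11, h12⟩ := P_injective hsq
  refine ⟨?_, ?_, ?_, ?_⟩
  · linear_combination h5 - c * two_eq (K := K)
  · intro hb
    subst hb
    linear_combination h8 - d * two_eq (K := K)
  · intro hb hc
    subst hb hc
    simp only [map_zero] at h11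
    linear_combination h11 - e * two_eq (K := K)
  · intro ha hc
    subst ha hc
    simp only [map_zero] at h12
    linear_combination h12 - f * two_eq (K := K)

theorem sqrt_exists [Fintype K] (x : K) : ∃ y : K, y ^ 2 = x :=
  (frobeniusEquiv K 2).surjective x

theorem sq_inj {x y : K} (h : x ^ 2 = y ^ 2) : x = y := by
  have : (x - y) ^ 2 = 0 := by linear_combination h - (x * y - y ^ 2) * two_eq (K := K)
  exact sub_eq_zero.1 (pow_eq_zero_iff two_ne_zero |>.1 this)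

theorem fix_of_sq {x : K} (h : φ (x ^ 2) = x ^ 2) : φ x = x := sq_inj (by rw [← map_pow, h])

theorem eq_of_add {x y : K} (h : x + y = 0) : x = y := by
  rw [← neg_eq y]; exact eq_neg_of_add_eq_zero_left h

theorem clear_c {a c d e f : K} (ha : a ≠ 0) (he : φ e = e) (hf : φ f = f)
    (hsq : Q φ 0 a c d e f * Q φ 0 a c d e f = 1) :
    ∃ d' e' f', φ e' = e' ∧ φ f' = f' ∧ Cj φ hφ (Q φ 0 a c d e f) (Q φ 0 a 0 d' e' f') := by
  have h := (sq_eqs hsq).2.1 rfl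
  obtain ⟨s, hs⟩ : ∃ x, x = c / a := ⟨_, rfl⟩
  have ha2 : φ (φ a) ≠ 0 := by simpa using ha
  have h2 : φ (φ s) = s := by
    rw [hs, map_div₀, map_div₀]
    field_simp
    linear_combination h - c * φ (φ a) * two_eq (K := K)
  have hφs : φ s = s := by
    have := congrArg φ h2
    rw [phi3 hφ] at this
    exact this.symm
  obtain ⟨b', a', c', d', e', f', hb', he', hf', hc, heq⟩ :=
    move (Q_mem (hφ := hφ) hφs (map_zero φ) (map_zero φ) 0 0 0) (Q_mem (map_zero φ) he hf a c d)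
  simp only [Q, map_zero, P_mul] at heq
  obtain ⟨e1, e2, -, -, e5, -⟩ := P_injective heq
  have ea : a' = a := by linear_combination -e2
  have eb : b' = 0 := by linear_combination -e1
  subst ea eb
  have ec : c' = 0 := by
    have : a' * s = c := by rw [hs]; field_simp
    linear_combination -e5 - this
  subst ec
  exact ⟨d', e', f', he', hf', hc⟩

theorem clear_d {a d e f : K} (ha : a ≠ 0) (he : φ e = e) (hf : φ f = f)
    (hsq : Q φ 0 a 0 d e f * Q φ 0 a 0 d e f = 1) :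
    ∃ e' f', φ e' = e' ∧ φ f' = f' ∧ Cj φ hφ (Q φ 0 a 0 d e f) (Q φ 0 a 0 0 e' f') := by
  have h := (sq_eqs hsq).2.2.1 rfl rfl
  have ha1 : φ a ≠ 0 := by simpa using ha
  have ha2 : φ (φ a) ≠ 0 := by simpa using ha
  obtain ⟨w, hw⟩ : ∃ x, x = d / (a * φ (φ a)) := ⟨_, rfl⟩
  have hd : d = w * (a * φ (φ a)) := by rw [hw]; field_simp
  have hsum : w + φ w + φ (φ w) = 0 := by
    have h1 : (a * φ a * φ (φ a)) * (w + φ w + φ (φ w)) = 0 := by
      rw [hd] at h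
      simp only [map_mul, phi3 hφ] at h
      linear_combination h
    exact (mul_eq_zero.1 h1).resolve_left (mul_ne_zero (mul_ne_zero ha ha1) ha2)
  obtain ⟨C, hC⟩ : ∃ x, x = a * φ (φ w) := ⟨_, rfl⟩
  obtain ⟨b', a', c', d', e', f', hb', he', hf', hc, heq⟩ :=
    move (Q_mem (hφ := hφ) (map_zero φ) (map_zero φ) (map_zero φ) 0 C 0)
      (Q_mem (map_zero φ) he hf a 0 d)
  simp only [Q, map_zero, P_mul] at heq
  obtain ⟨e1, e2, -, -, e5, -, -, e8, -⟩ := P_injective heq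
  have ea : a' = a := by linear_combination -e2
  have eb : b' = 0 := by linear_combination -e1
  subst ea eb
  have ec : c' = 0 := by linear_combination -e5
  subst ec
  have h4 : φ (φ C) = φ (φ a') * φ w := by rw [hC]; simp only [map_mul, phi3 hφ]
  have ed : d' = 0 := by
    simp only [map_zero] at e8
    linear_combination -e8 + hd + a' * h4 + φ (φ a') * hC + a' * φ (φ a') * hsum
  subst ed
  exact ⟨e', f', he', hf', hc⟩

theorem clear_ef [Fintype K] {a e f : K} (ha : a ≠ 0) (he : φ e = e) (hf : φ f = f) :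
    Cj φ hφ (Q φ 0 a 0 0 e f) (Q φ 0 a 0 0 0 0) := by
  have ha1 : φ a ≠ 0 := by simpa using ha
  have ha2 : φ (φ a) ≠ 0 := by simpa using ha
  obtain ⟨N, hNdef⟩ : ∃ x, x = a * φ a * φ (φ a) := ⟨_, rfl⟩
  have hN : φ N = N := by rw [hNdef]; simp only [map_mul, phi3 hφ]; ring
  have hN0 : N ≠ 0 := hNdef ▸ mul_ne_zero (mul_ne_zero ha ha1) ha2
  obtain ⟨s, hs⟩ := sqrt_exists (f / N)
  have hsf : φ s = s := fix_of_sq (by rw [hs, map_div₀, hf, hN])
  obtain ⟨k, hk⟩ : ∃ x, x = e + s * N := ⟨_, rfl⟩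
  have hkf : φ k = k := by rw [hk, map_add, map_mul, hsf, hN, he]
  obtain ⟨D, hD'⟩ : ∃ x, x = k / φ a := ⟨_, rfl⟩
  have hD1 : φ D = k / φ (φ a) := by rw [hD', map_div₀, hkf]
  have hD2 : φ (φ D) = k / a := by rw [hD1, map_div₀, hkf, phi3 hφ]
  have hDa : D * φ a = k := by rw [hD']; field_simp
  have hD1a : φ D * φ (φ a) = k := by rw [hD1]; field_simp
  have hD2a : φ (φ D) * a = k := by rw [hD2]; field_simp
  have hs2 : s ^ 2 * N = f := by rw [hs]; field_simp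
  refine Cj.symm (cj_of_eq (e := Q φ 0 0 (s * a) D 0 0)
    ((TT).U1_le_G1 (Q_mem (map_zero φ) (map_zero φ) (map_zero φ) 0 _ _)) ?_)
  simp only [Q, map_zero, map_mul, hsf, P_mul]
  congr 1
  all_goals try ring1
  · linear_combination s * a * φ (φ a) * two_eq (K := K)
  · linear_combination s * a * φ a * two_eq (K := K)
  · linear_combination s * φ a * φ (φ a) * two_eq (K := K)
  · linear_combination hDa + hD1a + hD2a + 3 * s * hNdef.symm + 3 * hk + (e + 3 * s * N) * two_eq (K := K)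
  · linear_combination 3 * s ^ 2 * hNdef.symm + 3 * hs2 + f * two_eq (K := K)

theorem case_tail [Fintype K] {d e f : K} (hd : d ≠ 0) (he : φ e = e) (hf : φ f = f) :
    Cj φ hφ (Q φ 0 0 0 d e f) (Q φ 0 0 0 d 0 0) := by
  have hd1 : φ d ≠ 0 := by simpa using hd
  have hd2 : φ (φ d) ≠ 0 := by simpa using hd
  have key : ∀ z, φ z = z → ∀ y, y = φ (φ (z / d)) →
      d * φ y = z ∧ φ d * φ (φ y) = z ∧ φ (φ d) * y = z := by
    intro z hz y hy
    subst hy
    simp only [phi3 hφ, map_div₀, hz]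
    refine ⟨?_, ?_, ?_⟩ <;> field_simp
  refine Cj.trans (k := Q φ 0 0 0 d 0 0) (h := Q φ 0 0 0 d 0 f) ?_ ?_
  · obtain ⟨k1, k2, k3⟩ := key e he (φ (φ (e / d))) rfl
    refine cj_of_eq (e := Q φ 0 (φ (φ (e / d))) 0 0 0 0)
      ((TT).U1_le_G1 (Q_mem (map_zero φ) (map_zero φ) (map_zero φ) _ _ _)) ?_
    simp only [Q, map_zero, P_mul]
    congr 1
    all_goals try ring1
    linear_combination -(k1 + k2 + k3) - e * two_eq (K := K)
  · obtain ⟨k1, k2, k3⟩ := key f hf (φ (φ (f / d))) rfl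
    refine cj_of_eq (e := Q φ 0 0 (φ (φ (f / d))) 0 0 0)
      ((TT).U1_le_G1 (Q_mem (map_zero φ) (map_zero φ) (map_zero φ) _ _ _)) ?_
    simp only [Q, map_zero, P_mul]
    congr 1
    all_goals try ring1
    linear_combination -(k1 + k2 + k3) - f * two_eq (K := K)

theorem long_step {e f : K} (he0 : e ≠ 0) (he : φ e = e) (hf : φ f = f) :
    Cj φ hφ (Q φ 0 0 0 0 e f) (Q φ 0 0 0 0 0 e) := by
  refine Cj.trans (h := Q φ 0 0 0 0 e 0) ?_ (nA1_Q 0 0 e 0)
  refine cj_of_eq (e := Q φ (f / e) 0 0 0 0 0)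
    ((TT).U1_le_G1 (Q_mem (by rw [map_div₀, hf, he]) (map_zero φ) (map_zero φ) _ _ _)) ?_
  simp only [Q, map_zero, P_mul]
  congr 1
  all_goals try ring1
  have : e * (f / e) = f := by field_simp
  linear_combination -this

theorem case_b [Fintype K] {b c d e f : K} (hb0 : b ≠ 0) (hb : φ b = b) (he : φ e = e) (hf : φ f = f)
    (hsq : Q φ b 0 c d e f * Q φ b 0 c d e f = 1) :
    Cj φ hφ (Q φ b 0 c d e f) (Q φ 0 0 0 0 0 b) ∨
      ∃ d' e' f', d' ≠ 0 ∧ φ e' = e' ∧ φ f' = f' ∧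
        Cj φ hφ (Q φ b 0 c d e f) (Q φ 0 0 0 d' e' f') := by
  obtain ⟨b₁, a₁, c₁, d₁, e₁, f₁, hb₁, he₁, hf₁, hc₁, heq⟩ :=
    move (Q_mem (hφ := hφ) (map_zero φ) (map_zero φ) (map_zero φ) (c / b) 0 0)
      (Q_mem hb he hf 0 c d)
  simp only [Q, map_zero, P_mul] at heq
  obtain ⟨q1, q2, -, -, q5, -⟩ := P_injective heq
  have ea : a₁ = 0 := by linear_combination -q2
  have eb : b₁ = b := by linear_combination -q1
  subst ea eb
  have hcb : c / b₁ * b₁ = c := by field_simp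
  have ec : c₁ = 0 := by
    linear_combination -q5 + hcb + c * two_eq (K := K)
  subst ec
  have he1 : e₁ = 0 := (mul_eq_zero.1 ((sq_eqs (hc₁.sq hsq)).2.2.2 rfl rfl)).resolve_right hb0
  subst he1
  have h2 : Cj φ hφ (Q φ b₁ 0 0 d₁ 0 f₁) (Q φ b₁ 0 0 d₁ 0 0) := by
    refine cj_of_eq (e := Q φ 0 0 0 0 (f₁ / b₁) 0)
      ((TT).U1_le_G1 (Q_mem (map_zero φ) (by rw [map_div₀, hf₁, hb₁]) (map_zero φ) _ _ _)) ?_
    simp only [Q, map_zero, P_mul]
    congr 1
    all_goals try ring1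
    have : f₁ / b₁ * b₁ = f₁ := by field_simp
    linear_combination this + f₁ * two_eq (K := K)
  have h3 := hc₁.trans h2
  by_cases hd : d₁ = 0
  · subst hd
    left
    refine h3.trans ((nA0_Q b₁ 0 0).trans ?_)
    rw [map_zero]
    exact nA1_Q 0 0 b₁ 0
  right
  obtain ⟨w, hw⟩ : ∃ x, x = d₁ / b₁ := ⟨_, rfl⟩
  have hw0 : w ≠ 0 := hw ▸ div_ne_zero hd hb0
  have hw1 : φ w ≠ 0 := by simpa using hw0
  have hw2 : φ (φ w) ≠ 0 := by simpa using hw0
  obtain ⟨r, hr⟩ := sqrt_exists (w * φ w * φ (φ w))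
  have hrf : φ r = r := fix_of_sq (by rw [hr]; simp only [map_mul, phi3 hφ]; ring)
  obtain ⟨v, hv⟩ : ∃ x, x = r / φ (φ w) := ⟨_, rfl⟩
  have hr0 : r ≠ 0 := by
    rintro rfl
    exact mul_ne_zero (mul_ne_zero hw0 hw1) hw2 (hr.symm.trans (by ring))
  have hv0 : v ≠ 0 := hv ▸ div_ne_zero hr0 hw2
  have hvv : v * φ (φ v) = w := by
    rw [hv]
    simp only [map_div₀, hrf, phi3 hφ]
    field_simp
    linear_combination hr
  have hd' : b₁ * (v * φ (φ v)) = d₁ := by rw [hvv, hw]; field_simp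
  obtain ⟨b₂, a₂, c₂, d₂, e₂, f₂, hb₂, he₂, hf₂, hc₂, heq⟩ :=
    move (Q_mem (hφ := hφ) (map_zero φ) (map_zero φ) (map_zero φ) v 0 0)
      (Q_mem hb₁ (map_zero φ) (map_zero φ) 0 0 d₁)
  simp only [Q, map_zero, P_mul] at heq
  obtain ⟨q1, q2, -, -, q5, -, -, q8, -⟩ := P_injective heq
  have ea : a₂ = 0 := by linear_combination -q2
  have eb : b₂ = b₁ := by linear_combination -q1
  subst ea eb
  simp only [map_zero] at q5 q8
  have ec : c₂ = v * b₂ := by linear_combination -q5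
  subst ec
  have ed : d₂ = 0 := by
    simp only [map_mul, hb₂] at q8
    linear_combination -q8 + hd' + (d₁ - b₂ * (v * φ (φ v))) * two_eq (K := K)
  subst ed
  have hsq2 := hc₂.sq (h3.sq hsq)
  have he2 : e₂ = 0 := by
    rw [Q, P_mul, one_eq_P] at hsq2
    obtain ⟨-, -, -, -, -, -, -, -, -, -, -, h12⟩ := P_injective hsq2
    simp only [map_zero] at h12
    have : e₂ * b₂ = 0 := by linear_combination h12 - f₂ * two_eq (K := K)
    exact (mul_eq_zero.1 this).resolve_right hb0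
  subst he2
  exact ⟨_, _, _, by simpa using mul_ne_zero hv0 hb0, hb₂, hf₂, (h3.trans hc₂).trans (nA0_Q b₂ _ f₂)⟩

end Char

end D4Invol

end Cfsg.Agent.Chev
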