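import Cfsg.Agent.Chev.Collect
import Cfsg.Agent.Chev.All
import Cfsg.Agent.Chev.BNpair

/-!
Coordinates on the positive unipotent subgroup of `D₄` in characteristic two, arranged along the
fibres of the folding onto `G₂`.
-/

set_option autoImplicit false
set_option maxRecDepth 100000
set_option maxHeartbeats 1000000

namespace Cfsg.Agent.Chev

open Cfsg.Lie

universe u

namespace D4Invol

local notation "hD" => facts_chevD4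

/-- The roots in the order of the coordinates: `b; a; c; d; e; f`. -/
def ordL : List ℕ := [14, 12, 18, 13, 15, 19, 16, 17, 20, 21, 22, 23]

/-- The rank of a root in that order. -/
def key (r : ℕ) : ℕ := ordL.idxOf r

/-- The natural rank. -/
def keyN (r : ℕ) : ℕ := r

/-- The word of twelve variables. -/
def pw (o : ℕ) : List (ℕ × CE) := (List.range 12).map fun i => (ordL.getD i 0, CE.var (i + o))

/-- The collected product. -/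
def mulPoly : List (ℕ × List (List ℕ)) :=
  [(14, [[12], [0]]), (12, [[13], [1]]), (18, [[14], [2]]), (13, [[15], [3]]), (15, [[16], [4],
    [1, 12]]), (19, [[17], [5], [2, 12]]), (16, [[18], [6], [3, 12]]), (17, [[19], [3, 12, 13], [6,
    13], [7], [1, 3, 12], [4, 15], [1, 12, 15]]), (20, [[20], [2, 12, 13], [5, 13], [8], [1, 2, 12],
    [4, 14], [1, 12, 14]]), (21, [[21], [3, 12, 14], [6, 14], [9], [2, 3, 12], [5, 15], [2, 12,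
    15]]), (22, [[22], [3, 12, 13, 14], [6, 13, 14], [7, 14], [1, 3, 12, 14], [1, 2, 3, 12], [10],
    [9, 13], [2, 3, 12, 13], [2, 12, 13, 15], [5, 13, 15], [8, 15], [1, 2, 12, 15], [4, 14, 15], [1,
    12, 14, 15]]), (23, [[23], [1, 12, 15, 17], [4, 15, 17], [1, 3, 12, 17], [7, 17], [6, 13, 17],
    [3, 12, 13, 17], [1, 2, 12, 12, 15], [2, 4, 12, 15], [1, 5, 12, 15], [4, 5, 15], [2, 3, 12, 12,
    13], [3, 5, 12, 13], [2, 6, 12, 13], [5, 6, 13], [11], [10, 12], [1, 3, 5, 12], [2, 3, 4, 12],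
    [1, 2, 6, 12], [4, 6, 14], [1, 6, 12, 14], [3, 4, 12, 14], [1, 3, 12, 12, 14], [3, 12, 14, 16],
    [6, 14, 16], [9, 16], [2, 3, 12, 16], [5, 15, 16], [2, 12, 15, 16], [2, 12, 13, 18], [5, 13,
    18], [8, 18], [1, 2, 12, 18], [4, 14, 18], [1, 12, 14, 18]])]

/-- The collected word in the natural order. -/
def natPoly : List (ℕ × List (List ℕ)) :=
  [(12, [[1]]), (13, [[3]]), (14, [[0]]), (15, [[4], [0, 1]]), (16, [[6], [0, 3]]), (17, [[7], [0,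
    1, 3]]), (18, [[2]]), (19, [[5]]), (20, [[8], [2, 4]]), (21, [[9], [2, 6]]), (22, [[10], [2,
    7]]), (23, [[11], [2, 4, 6], [5, 7]])]

theorem mulPoly_eq : collPoly chevD4 key 40 (pw 0 ++ pw 12) = mulPoly := by decide +kernel

theorem natPoly_eq : collPoly chevD4 keyN 40 (pw 0) = natPoly := by decide +kernel

theorem nroots_eq : chevD4.nroots = 24 := by decide +kernel

theorem half_eq : half chevD4 = 12 := by decide +kernel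

variable {F : Type u} [Field F]

/-- The element with the given coordinates. -/
def P (b a₀ a₁ a₂ c₀ c₁ c₂ d₀ d₁ d₂ e f : F) : GL chevD4.Idx F :=
  xG hD 14 b * xG hD 12 a₀ * xG hD 18 a₁ * xG hD 13 a₂ * xG hD 15 c₀ * xG hD 19 c₁ * xG hD 16 c₂ *
    xG hD 17 d₀ * xG hD 20 d₁ * xG hD 21 d₂ * xG hD 22 e * xG hD 23 f

/-- The variables. -/
def env (l : List F) (i : ℕ) : F := l.getD i 0

theorem wordC_pw0 (b a₀ a₁ a₂ c₀ c₁ c₂ d₀ d₁ d₂ e f : F) (l : List F) :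
    wordC hD (env ([b, a₀, a₁, a₂, c₀, c₁, c₂, d₀, d₁, d₂, e, f] ++ l)) (pw 0) = P b a₀ a₁ a₂ c₀ c₁ c₂ d₀ d₁ d₂ e f := by
  simp [wordC, wordG, pw, ordL, env, P, List.range_succ, CE.val, mul_assoc]

theorem wordC_pw12 (b a₀ a₁ a₂ c₀ c₁ c₂ d₀ d₁ d₂ e f b' a₀' a₁' a₂' c₀' c₁' c₂' d₀' d₁' d₂' e' f' : F) :
    wordC hD (env ([b, a₀, a₁, a₂, c₀, c₁, c₂, d₀, d₁, d₂, e, f] ++ [b', a₀', a₁', a₂', c₀', c₁', c₂', d₀', d₁', d₂', e', f'])) (pw 12) = P b' a₀' a₁' a₂' c₀' c₁' c₂' d₀' d₁' d₂' e' f' := by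
  simp [wordC, wordG, pw, ordL, env, P, List.range_succ, CE.val, mul_assoc]

variable [CharP F 2]

theorem P_mul (b a₀ a₁ a₂ c₀ c₁ c₂ d₀ d₁ d₂ e f
    b' a₀' a₁' a₂' c₀' c₁' c₂' d₀' d₁' d₂' e' f' : F) :
    P b a₀ a₁ a₂ c₀ c₁ c₂ d₀ d₁ d₂ e f * P b' a₀' a₁' a₂' c₀' c₁' c₂' d₀' d₁' d₂' e' f' =
      P (b' + b) (a₀' + a₀) (a₁' + a₁) (a₂' + a₂) (c₀' + c₀ + a₀ * b') (c₁' + c₁ + a₁ * b') (c₂' + c₂ +
        a₂ * b') (d₀' + a₂ * b' * a₀' + c₂ * a₀' + d₀ + a₀ * a₂ * b' + c₀ * a₂' + a₀ * b' * a₂') (d₁' +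
        a₁ * b' * a₀' + c₁ * a₀' + d₁ + a₀ * a₁ * b' + c₀ * a₁' + a₀ * b' * a₁') (d₂' + a₂ * b' * a₁' +
        c₂ * a₁' + d₂ + a₁ * a₂ * b' + c₁ * a₂' + a₁ * b' * a₂') (e' + a₂ * b' * a₀' * a₁' + c₂ * a₀' *
        a₁' + d₀ * a₁' + a₀ * a₂ * b' * a₁' + a₀ * a₁ * a₂ * b' + e + d₂ * a₀' + a₁ * a₂ * b' * a₀' + a₁
        * b' * a₀' * a₂' + c₁ * a₀' * a₂' + d₁ * a₂' + a₀ * a₁ * b' * a₂' + c₀ * a₁' * a₂' + a₀ * b' *
        a₁' * a₂') (f' + a₀ * b' * a₂' * c₁' + c₀ * a₂' * c₁' + a₀ * a₂ * b' * c₁' + d₀ * c₁' + c₂ * a₀'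
        * c₁' + a₂ * b' * a₀' * c₁' + a₀ * a₁ * b' ^ 2 * a₂' + a₁ * c₀ * b' * a₂' + a₀ * c₁ * b' * a₂' +
        c₀ * c₁ * a₂' + a₁ * a₂ * b' ^ 2 * a₀' + a₂ * c₁ * b' * a₀' + a₁ * c₂ * b' * a₀' + c₁ * c₂ * a₀'
        + f + e * b' + a₀ * a₂ * c₁ * b' + a₁ * a₂ * c₀ * b' + a₀ * a₁ * c₂ * b' + c₀ * c₂ * a₁' + a₀ *
        c₂ * b' * a₁' + a₂ * c₀ * b' * a₁' + a₀ * a₂ * b' ^ 2 * a₁' + a₂ * b' * a₁' * c₀' + c₂ * a₁' *
        c₀' + d₂ * c₀' + a₁ * a₂ * b' * c₀' + c₁ * a₂' * c₀' + a₁ * b' * a₂' * c₀' + a₁ * b' * a₀' * c₂'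
        + c₁ * a₀' * c₂' + d₁ * c₂' + a₀ * a₁ * b' * c₂' + c₀ * a₁' * c₂' + a₀ * b' * a₁' * c₂') := by
  rw [← wordC_pw0 b a₀ a₁ a₂ c₀ c₁ c₂ d₀ d₁ d₂ e f [b', a₀', a₁', a₂', c₀', c₁', c₂', d₀', d₁', d₂', e', f'],
    ← wordC_pw12 b a₀ a₁ a₂ c₀ c₁ c₂ d₀ d₁ d₂ e f b' a₀' a₁' a₂' c₀' c₁' c₂' d₀' d₁' d₂' e' f', ← wordC_append,
    wordC_collPoly hD _ key 40, mulPoly_eq]
  simp [mulPoly, wordG, env, CE.pval, P, mul_assoc]
  congr 1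
  all_goals ring

/-- The coordinates in the natural order. -/
def natList (b a₀ a₁ a₂ c₀ c₁ c₂ d₀ d₁ d₂ e f : F) : List F :=
  [a₀, a₂, b, c₀ + b * a₀, c₂ + b * a₂, d₀ + b * a₀ * a₂, a₁, c₁, d₁ + a₁ * c₀, d₂ + a₁ * c₂, e +
    a₁ * d₀, f + a₁ * c₀ * c₂ + c₁ * d₀]

theorem P_nat (b a₀ a₁ a₂ c₀ c₁ c₂ d₀ d₁ d₂ e f : F) :
    P b a₀ a₁ a₂ c₀ c₁ c₂ d₀ d₁ d₂ e f =
      prodFrom hD 12 fun r => (natList b a₀ a₁ a₂ c₀ c₁ c₂ d₀ d₁ d₂ e f).getD (r - 12) 0 := by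
  rw [← wordC_pw0 b a₀ a₁ a₂ c₀ c₁ c₂ d₀ d₁ d₂ e f [], wordC_collPoly hD _ keyN 40, natPoly_eq, prodFrom,
    show chevD4.nroots - 12 = 12 by decide +kernel]
  simp [natPoly, natList, wordG, env, CE.pval, List.range'_succ, mul_assoc, add_comm]
  ring_nf

theorem P_injective {b a₀ a₁ a₂ c₀ c₁ c₂ d₀ d₁ d₂ e f
    b' a₀' a₁' a₂' c₀' c₁' c₂' d₀' d₁' d₂' e' f' : F}
    (h : P b a₀ a₁ a₂ c₀ c₁ c₂ d₀ d₁ d₂ e f =
      P b' a₀' a₁' a₂' c₀' c₁' c₂' d₀' d₁' d₂' e' f') :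
    b = b' ∧ a₀ = a₀' ∧ a₁ = a₁' ∧ a₂ = a₂' ∧ c₀ = c₀' ∧ c₁ = c₁' ∧ c₂ = c₂' ∧
      d₀ = d₀' ∧ d₁ = d₁' ∧ d₂ = d₂' ∧ e = e' ∧ f = f' := by
  rw [P_nat, P_nat] at h
  have hi := prodFrom_inj hD _ _ rfl half_eq.le h
  have h12 := hi 12 le_rfl (by rw [nroots_eq]; omega)
  have h13 := hi 13 (by omega) (by rw [nroots_eq]; omega)
  have h14 := hi 14 (by omega) (by rw [nroots_eq]; omega)
  have h15 := hi 15 (by omega) (by rw [nroots_eq]; omega)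
  have h16 := hi 16 (by omega) (by rw [nroots_eq]; omega)
  have h17 := hi 17 (by omega) (by rw [nroots_eq]; omega)
  have h18 := hi 18 (by omega) (by rw [nroots_eq]; omega)
  have h19 := hi 19 (by omega) (by rw [nroots_eq]; omega)
  have h20 := hi 20 (by omega) (by rw [nroots_eq]; omega)
  have h21 := hi 21 (by omega) (by rw [nroots_eq]; omega)
  have h22 := hi 22 (by omega) (by rw [nroots_eq]; omega)
  have h23 := hi 23 (by omega) (by rw [nroots_eq]; omega)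
  simp [natList] at h12 h13 h14 h15 h16 h17 h18 h19 h20 h21 h22 h23
  subst h12 h13 h14 h18 h19
  have e15 : c₀ = c₀' := by linear_combination h15
  have e16 : c₂ = c₂' := by linear_combination h16
  have e17 : d₀ = d₀' := by linear_combination h17
  subst e15 e16 e17
  refine ⟨rfl, rfl, rfl, rfl, rfl, rfl, rfl, rfl, ?_, ?_, ?_, ?_⟩
  · linear_combination h20
  · linear_combination h21
  · linear_combination h22
  · linear_combination h23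

theorem exists_P {g : GL chevD4.Idx F} (hg : g ∈ chevD4.posUnipotent F) :
    ∃ b a₀ a₁ a₂ c₀ c₁ c₂ d₀ d₁ d₂ e f, g = P b a₀ a₁ a₂ c₀ c₁ c₂ d₀ d₁ d₂ e f := by
  rw [posUnipotent_eq hD, half_eq] at hg
  obtain ⟨t, rfl⟩ := exists_prodFrom hD _ 12 rfl half_eq.le g hg
  refine ⟨t 14, t 12, t 18, t 13, t 15 - t 14 * t 12, t 19, t 16 - t 14 * t 13,
    t 17 - t 14 * t 12 * t 13, t 20 - t 18 * (t 15 - t 14 * t 12),
    t 21 - t 18 * (t 16 - t 14 * t 13),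
    t 22 - t 18 * (t 17 - t 14 * t 12 * t 13),
    t 23 - t 18 * (t 15 - t 14 * t 12) * (t 16 - t 14 * t 13) -
      t 19 * (t 17 - t 14 * t 12 * t 13), ?_⟩
  rw [P_nat]
  refine prodFrom_congr hD fun r h1 h2 => ?_
  rw [nroots_eq] at h2
  obtain ⟨i, rfl⟩ : ∃ i, r = 12 + i := ⟨r - 12, by omega⟩
  rw [Nat.add_sub_cancel_left]
  have hi : i < 12 := by omega
  interval_cases i <;> simp [natList] <;> ring

theorem P_mem (b a₀ a₁ a₂ c₀ c₁ c₂ d₀ d₁ d₂ e f : F) :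
    P b a₀ a₁ a₂ c₀ c₁ c₂ d₀ d₁ d₂ e f ∈ chevD4.posUnipotent F := by
  rw [P_nat]
  have h := prodFrom_mem hD 12 (F := F) fun r =>
    (natList b a₀ a₁ a₂ c₀ c₁ c₂ d₀ d₁ d₂ e f).getD (r - 12) 0
  rwa [posUnipotent_eq hD, half_eq]

theorem P_mem_group (b a₀ a₁ a₂ c₀ c₁ c₂ d₀ d₁ d₂ e f : F) :
    P b a₀ a₁ a₂ c₀ c₁ c₂ d₀ d₁ d₂ e f ∈ chevD4.group F :=
  (le_sup_left.trans (borel_le_group hD)) (P_mem b a₀ a₁ a₂ c₀ c₁ c₂ d₀ d₁ d₂ e f)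

end D4Invol

end Cfsg.Agent.Chev
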