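import Cfsg.Agent.Chev.D4Invol.Classes
import Cfsg.Agent.Chev.Functorial
import Mathlib.GroupTheory.Sylow

/-!
There are exactly two classes of involutions in `³D₄` in characteristic two.
-/

set_option autoImplicit false
set_option maxRecDepth 100000
set_option maxHeartbeats 1000000

namespace Cfsg.Agent.Chev

open Cfsg.Lie

universe u

namespace D4Invol

local notation "hD" => facts_chevD4

variable {K : Type u} [Field K] {φ : K →+* K} {hφ : ∀ t, (φ ^ 3) t = t} [CharP K 2]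

local notation "TT" => twistD4 K φ hφ

theorem node_vals : orbNode d4_031_π d4Base (0 : Fin 2) 0 = ⟨0, by decide⟩ ∧
    orbNode d4_031_π d4Base (0 : Fin 2) 1 = ⟨2, by decide⟩ ∧
    orbNode d4_031_π d4Base (0 : Fin 2) 2 = ⟨3, by decide⟩ ∧
    orbNode d4_031_π d4Base (1 : Fin 2) 0 = ⟨1, by decide⟩ := by
  decide +kernel

theorem cartan_rows : ∀ j : Fin chevD4.rank,
    chevD4.cartan j 17 = [-1, 0, 1, 1].getD (j : ℕ) 0 ∧ chevD4.cartan j 20 = [1, 0, -1, 1].getD (j : ℕ) 0 ∧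
      chevD4.cartan j 21 = [1, 0, 1, -1].getD (j : ℕ) 0 ∧ chevD4.cartan j 23 = [0, 1, 0, 0].getD (j : ℕ) 0 := by
  decide +kernel

theorem rank_eq : chevD4.rank = 4 := by decide +kernel

theorem chiU_four (c : Fin chevD4.rank → Kˣ) (s : ℕ) :
    chiU c s = c ⟨0, by decide⟩ ^ chevD4.cartan (⟨0, by decide⟩ : Fin chevD4.rank) s *
      c ⟨1, by decide⟩ ^ chevD4.cartan (⟨1, by decide⟩ : Fin chevD4.rank) s *
      c ⟨2, by decide⟩ ^ chevD4.cartan (⟨2, by decide⟩ : Fin chevD4.rank) s *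
      c ⟨3, by decide⟩ ^ chevD4.cartan (⟨3, by decide⟩ : Fin chevD4.rank) s := by
  show (∏ j : Fin 4, c j ^ chevD4.cartan j s) = _
  rw [Fin.prod_univ_four]
  rfl

theorem torus_short [Fintype K] {d : K} (hd : d ≠ 0) :
    Cj φ hφ (Q φ 0 0 0 d 0 0) (Q φ 0 0 0 1 0 0) := by
  have hw0 : (1 / d : K) ≠ 0 := div_ne_zero one_ne_zero hd
  obtain ⟨w, hw⟩ : ∃ w, w = 1 / d := ⟨_, rfl⟩
  rw [← hw] at hw0
  have hw1 : φ w ≠ 0 := by simpa using hw0
  have hw2 : φ (φ w) ≠ 0 := by simpa using hw0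
  obtain ⟨u, hu⟩ := sqrt_exists (φ w * φ (φ w))
  have hu0 : u ≠ 0 := by
    rintro rfl
    exact mul_ne_zero hw1 hw2 (hu.symm.trans (by ring))
  have key : u⁻¹ * φ u * φ (φ u) = w := by
    refine sq_inj ?_
    rw [mul_pow, mul_pow, inv_pow, hu, ← map_pow, hu, ← map_pow, ← map_pow, hu]
    simp only [map_mul, phi3 hφ]
    field_simp
  set U : Kˣ := Units.mk0 u hu0 with hU
  have hpar : (TT).Par (0 : Fin 2) (U : K) := hφ u
  have hmem : (TT).hv (0 : Fin 2) U ∈ (TT).cfix := (TT).hv_mem hpar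
  obtain ⟨n0, n1, n2, n3⟩ := node_vals
  have c0 : ((TT).hv (0 : Fin 2) U ⟨0, by decide⟩ : K) = u := by
    rw [← n0]
    exact (congrArg Units.val ((TT).hv_node (0 : Fin 2) U (j := 0) (show 0 < d4Len 0 by decide))).trans rfl
  have c2 : ((TT).hv (0 : Fin 2) U ⟨2, by decide⟩ : K) = φ u := by
    rw [← n1]
    exact (congrArg Units.val ((TT).hv_node (0 : Fin 2) U (j := 1) (show 1 < d4Len 0 by decide))).trans rfl
  have c3 : ((TT).hv (0 : Fin 2) U ⟨3, by decide⟩ : K) = φ (φ u) := by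
    rw [← n2]
    exact (congrArg Units.val ((TT).hv_node (0 : Fin 2) U (j := 2) (show 2 < d4Len 0 by decide))).trans rfl
  have c1 : (TT).hv (0 : Fin 2) U ⟨1, by decide⟩ = 1 := by
    refine (TT).hv_other U fun j hj => ?_
    have hj' : j < 3 := hj
    interval_cases j
    · exact n0.trans_ne (by decide)
    · exact n1.trans_ne (by decide)
    · exact n2.trans_ne (by decide)
  refine cj_of_eq ((TT).T1_le_G1 ⟨_, hmem, rfl⟩) ?_
  have e : ∀ t, Q φ 0 0 0 t 0 0 = xG hD 17 t * xG hD 20 (φ t) * xG hD 21 (φ (φ t)) := fun t => by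
    simp [Q, P, xG_zero, mul_assoc]
  have h17 := torusHom_conj hD ((TT).hv (0 : Fin 2) U) (r := 17) (by decide +kernel) d
  have h20 := torusHom_conj hD ((TT).hv (0 : Fin 2) U) (r := 20) (by decide +kernel) (φ d)
  have h21 := torusHom_conj hD ((TT).hv (0 : Fin 2) U) (r := 21) (by decide +kernel) (φ (φ d))
  have hwd : w * d = 1 := by rw [hw]; field_simp
  have x17 : (chiU ((TT).hv (0 : Fin 2) U) 17 : K) * d = 1 := by
    rw [chiU_four, (cartan_rows _).1, (cartan_rows _).1, (cartan_rows _).1, (cartan_rows _).1]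
    simp [c0, c1, c2, c3, key, hwd]
  have x20 : (chiU ((TT).hv (0 : Fin 2) U) 20 : K) * φ d = 1 := by
    rw [chiU_four, (cartan_rows _).2.1, (cartan_rows _).2.1, (cartan_rows _).2.1, (cartan_rows _).2.1]
    have := congrArg φ (hwd)
    rw [map_one, map_mul, ← key] at this
    simp only [map_mul, map_inv₀, phi3 hφ] at this
    simp [c0, c1, c2, c3]
    linear_combination this
  have x21 : (chiU ((TT).hv (0 : Fin 2) U) 21 : K) * φ (φ d) = 1 := by
    rw [chiU_four, (cartan_rows _).2.2.1, (cartan_rows _).2.2.1, (cartan_rows _).2.2.1, (cartan_rows _).2.2.1]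
    have := congrArg (fun x => φ (φ x)) hwd
    simp only [map_one, map_mul, ← key, map_inv₀, phi3 hφ] at this
    simp [c0, c1, c2, c3]
    linear_combination this
  rw [x17] at h17
  rw [x20] at h20
  rw [x21] at h21
  rw [e, e, map_one, map_one, ← mul_assoc, ← mul_assoc, h17, mul_assoc (xG hD 17 1), h20, ← mul_assoc,
    mul_assoc _ _ (xG hD 21 _), h21, ← mul_assoc]

theorem torus_long {f : K} (hf0 : f ≠ 0) (hf : φ f = f) :
    Cj φ hφ (Q φ 0 0 0 0 0 f) (Q φ 0 0 0 0 0 1) := by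
  set U : Kˣ := (Units.mk0 f hf0)⁻¹ with hU
  have hpar : (TT).Par (1 : Fin 2) (U : K) := by
    show (φ ^ d4Len 1) (U : K) = U
    rw [show d4Len 1 = 1 from rfl, pow_one, hU, Units.val_inv_eq_inv_val, Units.val_mk0, map_inv₀, hf]
  obtain ⟨n0, n1, n2, n3⟩ := node_vals
  have c1 : ((TT).hv (1 : Fin 2) U ⟨1, by decide⟩ : K) = f⁻¹ := by
    rw [← n3]
    exact (congrArg Units.val ((TT).hv_node (1 : Fin 2) U (j := 0) (show 0 < d4Len 1 by decide))).trans
      (by rw [hU]; simp)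
  refine cj_of_eq ((TT).T1_le_G1 ⟨_, (TT).hv_mem hpar, rfl⟩) ?_
  have e : ∀ t, Q φ 0 0 0 0 0 t = xG hD 23 t := fun t => by simp [Q, P, xG_zero]
  have x23 : (chiU ((TT).hv (1 : Fin 2) U) 23 : K) * f = 1 := by
    rw [chiU_four, (cartan_rows _).2.2.2, (cartan_rows _).2.2.2, (cartan_rows _).2.2.2, (cartan_rows _).2.2.2]
    simp [c1, hf0]
  rw [e, e, torusHom_conj hD _ (r := 23) (by decide +kernel), x23]

theorem classes_U [Fintype K] {g : GL chevD4.Idx K} (hg : g ∈ (TT).U1) (hsq : g * g = 1) (hne : g ≠ 1) :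
    Cj φ hφ g (Q φ 0 0 0 1 0 0) ∨ Cj φ hφ g (Q φ 0 0 0 0 0 1) := by
  have tail : ∀ {d e f : K}, d ≠ 0 → φ e = e → φ f = f →
      Cj φ hφ (Q φ 0 0 0 d e f) (Q φ 0 0 0 1 0 0) :=
    fun hd he hf => (case_tail hd he hf).trans (torus_short hd)
  have caseA : ∀ {a c d e f : K}, a ≠ 0 → φ e = e → φ f = f →
      Q φ 0 a c d e f * Q φ 0 a c d e f = 1 →
      Cj φ hφ (Q φ 0 a c d e f) (Q φ 0 0 0 1 0 0) := by
    intro a c d e f ha he hf hs
    obtain ⟨d', e', f', he', hf', h1⟩ := clear_c (hφ := hφ) ha he hf hs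
    obtain ⟨e'', f'', he'', hf'', h2⟩ := clear_d (hφ := hφ) ha he' hf' (h1.sq hs)
    refine (((h1.trans h2).trans (clear_ef ha he'' hf'')).trans (nA1_Q a 0 0 0).symm).trans ?_
    refine (nA0_Q 0 a 0).trans ?_
    exact tail (by simpa using ha) (map_zero φ) (map_zero φ)
  obtain ⟨b, a, c, d, e, f, hb, he, hf, rfl⟩ := exists_Q hg
  by_cases ha : a = 0
  · subst ha
    by_cases hb0 : b = 0
    · subst hb0
      by_cases hc : c = 0
      · subst hc
        by_cases hd : d = 0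
        · subst hd
          right
          by_cases he0 : e = 0
          · subst he0
            by_cases hf0 : f = 0
            · subst hf0
              exact absurd (by simp [Q, one_eq_P]) hne
            · exact torus_long hf0 hf
          · exact (long_step he0 he hf).trans (torus_long he0 he)
        · exact Or.inl (tail hd he hf)
      · have h := nA1_Q (φ := φ) (hφ := hφ) c d e f
        exact Or.inl (h.trans (caseA hc hf he (h.sq hsq)))
    · rcases case_b hb0 hb he hf hsq with h | ⟨d', e', f', hd', he', hf', h⟩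
      · exact Or.inr (h.trans (torus_long hb0 hb))
      · exact Or.inl (h.trans (tail hd' he' hf'))
  · have hb0 : b = 0 := (mul_eq_zero.1 (sq_eqs hsq).1).resolve_left ha
    subst hb0
    exact Or.inl (caseA ha he hf hsq)

theorem two_dvd_q {q : ℕ} [Fintype K] (hK : Fintype.card K = q ^ 3) : 2 ∣ q := by
  haveI : Fact (Nat.Prime 2) := ⟨Nat.prime_two⟩
  obtain ⟨n, -, hn⟩ := FiniteField.card K 2
  exact Nat.prime_two.dvd_of_dvd_pow (n := 3) (hK ▸ hn ▸ dvd_pow_self 2 n.ne_zero)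

theorem exists_conj_U [Fintype K] {q : ℕ} (hqφ : ∀ (j : ℕ) (t : K), (φ ^ j) t = t ^ q ^ j) (hq2 : 2 ≤ q)
    (hK : Fintype.card K = q ^ 3) {g : GL chevD4.Idx K} (hg : g ∈ (TT).G1) (hsq : g * g = 1) :
    ∃ h ∈ (TT).U1, Cj φ hφ g h := by
  classical
  haveI : Fact (Nat.Prime 2) := ⟨Nat.prime_two⟩
  have hle := (TT).U1_le_G1
  have hcard : Nat.card ((TT).U1.subgroupOf (TT).G1) = q ^ 12 := by
    rw [Nat.card_congr (Subgroup.subgroupOfEquivOfLe hle).toEquiv,
      (TT).card_U1 (q := q) fun a => d4_card_par φ hφ hqφ hq2 hK a,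
      show half chevD4 = 12 from half_eq]
  obtain ⟨m, hm⟩ : ∃ m, q = 2 ^ m := by
    obtain ⟨n, -, hn⟩ := FiniteField.card K 2
    obtain ⟨m, -, hm⟩ := (Nat.dvd_prime_pow Nat.prime_two).1 (hn ▸ hK ▸ dvd_pow_self q three_ne_zero)
    exact ⟨m, hm⟩
  have hUp : IsPGroup 2 ((TT).U1.subgroupOf (TT).G1) :=
    IsPGroup.of_card (n := m * 12) (by rw [hcard, hm, ← pow_mul])
  have hidx : ¬ 2 ∣ ((TT).U1.subgroupOf (TT).G1).index := by
    have h := ((TT).U1.subgroupOf (TT).G1).card_mul_index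
    rw [hcard, d4_card_G1 φ hφ hqφ hq2 hK, mul_assoc, mul_assoc] at h
    rw [Nat.eq_of_mul_eq_mul_left (pow_pos (by omega) 12) h]
    have hd := two_dvd_q hK
    have h1 : ∀ k, k ≠ 0 → ¬ 2 ∣ (q ^ k - 1) := fun k hk h1 => by
      have h2 : 2 ∣ q ^ k := dvd_pow hd hk
      have h3 : 1 ≤ q ^ k := Nat.one_le_pow _ _ (by omega)
      omega
    have h2 : ¬ 2 ∣ q ^ 8 + q ^ 4 + 1 := fun h1 => by
      have a8 : 2 ∣ q ^ 8 := dvd_pow hd (by norm_num)
      have a4 : 2 ∣ q ^ 4 := dvd_pow hd (by norm_num)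
      omega
    exact Nat.prime_two.not_dvd_mul (h1 2 (by norm_num))
      (Nat.prime_two.not_dvd_mul (h1 6 (by norm_num)) h2)
  let S := hUp.toSylow hidx
  set x : ↥(TT).G1 := ⟨g, hg⟩ with hx
  have hx2 : x ^ 2 = 1 := Subtype.ext (by rw [pow_two]; exact hsq)
  have hxp : IsPGroup 2 (Subgroup.zpowers x) := by
    rintro ⟨y, hy⟩
    obtain ⟨i, rfl⟩ := Subgroup.mem_zpowers_iff.1 hy
    refine ⟨1, Subtype.ext ?_⟩
    show (x ^ i) ^ 2 ^ 1 = 1
    rw [pow_one, ← zpow_natCast, ← zpow_mul, mul_comm, zpow_mul, zpow_natCast, hx2, one_zpow]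
  obtain ⟨T', hT⟩ := hxp.exists_le_sylow
  obtain ⟨k, hk⟩ := MulAction.exists_smul_eq ↥(TT).G1 T' S
  refine ⟨(k * x * k⁻¹ : ↥(TT).G1), ?_, (k : GL chevD4.Idx K), k.2, rfl⟩
  have : k * x * k⁻¹ ∈ (S : Subgroup ↥(TT).G1) := by
    rw [← hk]
    exact ⟨x, hT (Subgroup.mem_zpowers x), by simp [MulAut.conj_apply]⟩
  rwa [IsPGroup.toSylow_coe, Subgroup.mem_subgroupOf] at this

end D4Invol

end Cfsg.Agent.Chev
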