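import Cfsg.Agent.Chev.D4Invol.Count
import Mathlib.LinearAlgebra.Matrix.Rank

/-!
The two classes of involutions differ in the rank of `g - 1`.
-/

set_option autoImplicit false
set_option maxRecDepth 100000
set_option maxHeartbeats 1000000
set_option synthInstance.maxHeartbeats 200000
set_option synthInstance.maxSize 512

namespace Cfsg.Agent.Chev

open Cfsg.Lie

universe u

namespace D4Invol

local notation "hD" => facts_chevD4

instance : Fact (Nat.Prime 2) := ⟨Nat.prime_two⟩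

/-- An index of the matrices. -/
def ix (n : ℕ) : chevD4.Idx :=
  if h : n < 4 then Sum.inl ⟨n, lt_of_lt_of_eq h rank_eq.symm⟩
  else if h' : n - 4 < chevD4.nroots then Sum.inr ⟨n - 4, h'⟩
  else Sum.inr ⟨0, by rw [nroots_eq]; omega⟩

/-- The long root involution minus one. -/
def longM : Matrix chevD4.Idx chevD4.Idx (ZMod 2) := chevD4.x (ZMod 2) 23 1 - 1

/-- The short root involution minus one. -/
def shortM : Matrix chevD4.Idx chevD4.Idx (ZMod 2) :=
  chevD4.x (ZMod 2) 17 1 * chevD4.x (ZMod 2) 20 1 * chevD4.x (ZMod 2) 21 1 - 1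

/-- Columns supporting the first matrix. -/
def colsA (k : Fin 10) : chevD4.Idx := ix (([1, 4, 5, 6, 7, 8, 10, 11, 12, 13] : List ℕ).getD k 0)

/-- Rows of a regular minor of the second matrix. -/
def rowsB (k : Fin 12) : chevD4.Idx :=
  ix (([0, 1, 2, 8, 9, 16, 17, 19, 20, 21, 26, 27] : List ℕ).getD k 0)

/-- Columns of a regular minor of the second matrix. -/
def colsB (k : Fin 12) : chevD4.Idx :=
  ix (([0, 4, 5, 6, 7, 8, 9, 10, 11, 12, 14, 15] : List ℕ).getD k 0)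

/-- The inverse of the minor. -/
def invB : Matrix (Fin 12) (Fin 12) (ZMod 2) := fun a b =>
  ((([[1, 1, 0, 0, 0, 0, 0, 0, 0, 1, 0, 0], [0, 0, 0, 1, 0, 0, 0, 0, 0, 0, 0, 0],
    [0, 0, 0, 0, 1, 0, 0, 0, 0, 0, 0, 0], [1, 1, 1, 0, 0, 0, 0, 0, 0, 0, 0, 0],
    [0, 1, 1, 0, 0, 0, 0, 0, 0, 0, 0, 0], [0, 0, 0, 1, 0, 1, 1, 0, 0, 0, 1, 0],
    [0, 0, 0, 0, 1, 0, 0, 1, 1, 0, 0, 1], [1, 1, 0, 0, 0, 0, 0, 0, 0, 0, 0, 0],
    [0, 0, 0, 0, 0, 0, 1, 0, 0, 0, 1, 0], [0, 0, 0, 0, 0, 1, 0, 0, 0, 0, 1, 0],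
    [0, 0, 0, 0, 0, 0, 0, 0, 1, 0, 0, 1], [0, 0, 0, 0, 0, 0, 0, 1, 0, 0, 0, 1]] : List (List ℕ)).getD a []).getD b 0 : ℕ)

theorem longM_cols_or : ∀ p : chevD4.Idx × chevD4.Idx, longM p.1 p.2 = 0 ∨ ∃ k, colsA k = p.2 := by
  decide +kernel

theorem longM_cols (i j : chevD4.Idx) (h : ∀ k, colsA k ≠ j) : longM i j = 0 :=
  (longM_cols_or (i, j)).resolve_right fun ⟨k, hk⟩ => h k hk

theorem colsA_inj : ∀ a b, colsA a = colsA b → a = b := by decide +kernel

theorem shortM_minor : ∀ a b : Fin 12,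
    ∑ k : Fin 12, invB a k * shortM (rowsB k) (colsB b) = if a = b then 1 else 0 := by
  decide +kernel

variable {K : Type u} [Field K] {φ : K →+* K} {hφ : ∀ t, (φ ^ 3) t = t} [CharP K 2]

local notation "TT" => twistD4 K φ hφ

theorem x_map (ι : ZMod 2 →+* K) (r : ℕ) :
    (chevD4.x (ZMod 2) r 1).map ι = chevD4.x K r (1 : K) := by
  have h := congrArg Units.val (gmap_xG (hD) (hD) ι r (1 : ZMod 2))
  rw [map_one, xG_val] at h
  rw [← h, ← xG_val facts_chevD4 r (1 : ZMod 2)]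
  rfl

theorem rank_long (ι : ZMod 2 →+* K) : (longM.map ι).rank ≤ 10 := by
  have e : longM.map ι = (longM.map ι).submatrix id colsA *
      (Matrix.of fun k j => if colsA k = j then (1 : K) else 0) := by
    ext i j
    simp only [Matrix.mul_apply, Matrix.submatrix_apply, Matrix.of_apply, id, mul_ite, mul_one, mul_zero,
      Matrix.map_apply]
    by_cases h : ∃ k, colsA k = j
    · obtain ⟨k, rfl⟩ := h
      rw [Finset.sum_eq_single k (fun b _ hb => if_neg fun e => hb (colsA_inj _ _ e))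
        (fun h => absurd (Finset.mem_univ k) h), if_pos rfl]
    · push Not at h
      rw [longM_cols i j h, map_zero]
      exact (Finset.sum_eq_zero fun k _ => if_neg (h k)).symm
  rw [e]
  exact (Matrix.rank_mul_le_left _ _).trans ((Matrix.rank_le_card_width _).trans (by simp))

theorem rank_short (ι : ZMod 2 →+* K) : 12 ≤ (shortM.map ι).rank := by
  have h : invB.map ι * (shortM.map ι).submatrix rowsB colsB = 1 := by
    ext a b
    rw [Matrix.mul_apply, Matrix.one_apply]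
    simp only [Matrix.map_apply, Matrix.submatrix_apply, ← map_mul, ← map_sum, shortM_minor]
    split_ifs <;> simp
  have e : (shortM.map ι).submatrix rowsB colsB =
      (1 : Matrix chevD4.Idx chevD4.Idx K).submatrix rowsB id * shortM.map ι *
        (1 : Matrix chevD4.Idx chevD4.Idx K).submatrix id colsB := by
    ext a b
    simp [Matrix.mul_apply, Matrix.one_apply]
  have h1 : (1 : Matrix (Fin 12) (Fin 12) K).rank = 12 := by simp [Matrix.rank_one]
  rw [← h1, ← h]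
  refine (Matrix.rank_mul_le_right _ _).trans ?_
  rw [e]
  exact (Matrix.rank_mul_le_left _ _).trans (Matrix.rank_mul_le_right _ _)

theorem not_cj : ¬ Cj φ hφ (Q φ 0 0 0 0 0 1) (Q φ 0 0 0 1 0 0) := by
  rintro ⟨g, -, hg⟩
  set ι : ZMod 2 →+* K := ZMod.castHom (dvd_refl 2) K
  have eL : ((Q φ 0 0 0 0 0 1 : GL chevD4.Idx K) : Matrix chevD4.Idx chevD4.Idx K) - 1 = longM.map ι := by
    rw [longM, Matrix.map_sub _ (map_sub ι), x_map, Matrix.map_one _ (map_zero ι) (map_one ι)]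
    simp [Q, P, xG_zero]
  have eS : ((Q φ 0 0 0 1 0 0 : GL chevD4.Idx K) : Matrix chevD4.Idx chevD4.Idx K) - 1 = shortM.map ι := by
    rw [shortM, Matrix.map_sub _ (map_sub ι), Matrix.map_mul, Matrix.map_mul, x_map, x_map, x_map,
      Matrix.map_one _ (map_zero ι) (map_one ι)]
    simp [Q, P, xG_zero]
  have : ((Q φ 0 0 0 1 0 0 : GL chevD4.Idx K) : Matrix chevD4.Idx chevD4.Idx K) - 1 =
      (g : Matrix chevD4.Idx chevD4.Idx K) *
        (((Q φ 0 0 0 0 0 1 : GL chevD4.Idx K) : Matrix chevD4.Idx chevD4.Idx K) - 1) *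
          ((g⁻¹ : GL chevD4.Idx K) : Matrix chevD4.Idx chevD4.Idx K) := by
    rw [← hg, mul_sub, sub_mul, mul_one, Units.val_mul, Units.val_mul, Units.mul_inv]
  rw [eL, eS] at this
  have h1 := rank_short ι
  rw [this] at h1
  have h2 : ((g : Matrix chevD4.Idx chevD4.Idx K) * longM.map ι *
      ((g⁻¹ : GL chevD4.Idx K) : Matrix chevD4.Idx chevD4.Idx K)).rank ≤ 10 :=
    (Matrix.rank_mul_le_left _ _).trans
      ((Matrix.rank_mul_le_right _ _).trans (rank_long ι))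
  exact absurd (h1.trans h2) (by norm_num)

theorem Q_ne_one {d f : K} (h : d ≠ 0 ∨ f ≠ 0) : Q φ 0 0 0 d 0 f ≠ 1 := by
  intro e
  rw [Q, one_eq_P] at e
  obtain ⟨-, -, -, -, -, -, -, h8, -, -, -, h12⟩ := P_injective e
  exact h.elim (fun h => h h8) (fun h => h h12)

theorem Q_short_sq : Q φ 0 0 0 1 0 0 * Q φ 0 0 0 1 0 0 = 1 := by
  rw [Q, P_mul, one_eq_P]
  simp only [map_zero, map_one]
  congr 1
  all_goals first
    | ring1
    | linear_combination two_eq (K := K)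

theorem Q_long_sq : Q φ 0 0 0 0 0 1 * Q φ 0 0 0 0 0 1 = 1 := by
  rw [Q, P_mul, one_eq_P]
  simp only [map_zero]
  congr 1
  all_goals first
    | ring1
    | linear_combination two_eq (K := K)

theorem class_count [Fintype K] {q : ℕ} (hqφ : ∀ (j : ℕ) (t : K), (φ ^ j) t = t ^ q ^ j) (hq2 : 2 ≤ q)
    (hK : Fintype.card K = q ^ 3) :
    (ConjClasses.mk '' {g : ↥(TT).G1 | orderOf g = 2}).ncard = 2 := by
  classical
  set s : ↥(TT).G1 := ⟨Q φ 0 0 0 1 0 0,
    (TT).U1_le_G1 (Q_mem (map_zero φ) (map_zero φ) (map_zero φ) _ _ _)⟩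
  set l : ↥(TT).G1 := ⟨Q φ 0 0 0 0 0 1,
    (TT).U1_le_G1 (Q_mem (map_zero φ) (map_zero φ) (map_one φ) _ _ _)⟩
  have ord : ∀ x : ↥(TT).G1, orderOf x = 2 ↔ (x : GL chevD4.Idx K) * x = 1 ∧ (x : GL chevD4.Idx K) ≠ 1 := by
    intro x
    rw [orderOf_eq_prime_iff, pow_two, ne_eq, ← Subtype.coe_inj, ← Subtype.coe_inj (b := (1 : ↥(TT).G1))]
    rfl
  have conj : ∀ x y : ↥(TT).G1, Cj φ hφ (x : GL chevD4.Idx K) y → IsConj x y := fun x y ⟨g, hg, e⟩ =>
    isConj_iff.2 ⟨⟨g, hg⟩, Subtype.ext e⟩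
  have hs : orderOf s = 2 := (ord s).2 ⟨Q_short_sq, Q_ne_one (Or.inl one_ne_zero)⟩
  have hl : orderOf l = 2 := (ord l).2 ⟨Q_long_sq, Q_ne_one (Or.inr one_ne_zero)⟩
  have key : ConjClasses.mk '' {g : ↥(TT).G1 | orderOf g = 2} = {ConjClasses.mk s, ConjClasses.mk l} := by
    ext C
    constructor
    · rintro ⟨x, hx, rfl⟩
      obtain ⟨h1, h2⟩ := (ord x).1 hx
      obtain ⟨y, hy, hc⟩ := exists_conj_U hqφ hq2 hK x.2 h1
      have hy2 : y ≠ 1 := by
        obtain ⟨e, -, rfl⟩ := hc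
        exact fun e1 => h2 (conj_eq_one_iff.1 e1)
      rcases classes_U hy (hc.sq h1) hy2 with h | h
      · exact Or.inl (ConjClasses.mk_eq_mk_iff_isConj.2 (conj x s (hc.trans h)))
      · exact Or.inr (ConjClasses.mk_eq_mk_iff_isConj.2 (conj x l (hc.trans h)))
    · rintro (rfl | rfl)
      exacts [⟨s, hs, rfl⟩, ⟨l, hl, rfl⟩]
  rw [key, Set.ncard_pair fun e => ?_]
  obtain ⟨c, hc⟩ := isConj_iff.1 (ConjClasses.mk_eq_mk_iff_isConj.1 e)
  exact not_cj (φ := φ) (hφ := hφ) (Cj.symm ⟨c, c.2, congrArg Subtype.val hc⟩)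

end D4Invol

end Cfsg.Agent.Chev
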